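import Mathlib.GroupTheory.Sylow
import Mathlib.GroupTheory.Commutator.Basic
import Mathlib.GroupTheory.QuotientGroup.Basic

/-!
Conjugation of `p`-subgroups into a subgroup that is maximal among `p`-subgroups, and small
commutator identities.
-/

set_option autoImplicit false

namespace CfsgLib.S4Free

open Subgroup
open scoped commutatorElement

variable {G : Type*} [Group G] {p : ℕ}

/-- `T` is maximal among the `p`-subgroups of `H`. -/
def IsMaxPIn (p : ℕ) (T H : Subgroup G) : Prop :=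
  T ≤ H ∧ IsPGroup p T ∧ ∀ P : Subgroup G, P ≤ H → IsPGroup p P → T ≤ P → P = T

theorem exists_isMaxPIn [Finite G] {P H : Subgroup G} (hPH : P ≤ H) (hP : IsPGroup p P) :
    ∃ T, IsMaxPIn p T H ∧ P ≤ T := by
  obtain ⟨T, hPT, hT⟩ := Set.Finite.exists_le_maximal
    (Set.toFinite {X : Subgroup G | X ≤ H ∧ IsPGroup p X}) (a := P) ⟨hPH, hP⟩
  exact ⟨T, ⟨hT.prop.1, hT.prop.2, fun X hX hXp hTX => le_antisymm (hT.2 ⟨hX, hXp⟩ hTX) hTX⟩, hPT⟩

theorem IsMaxPIn.of_le {T H H' : Subgroup G} (h : IsMaxPIn p T H) (hT : T ≤ H') (hH : H' ≤ H) :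
    IsMaxPIn p T H' :=
  ⟨hT, h.2.1, fun P hP => h.2.2 P (hP.trans hH)⟩

/-- A `p`-subgroup of `H` that `T` normalises lies in `T`. -/
theorem IsMaxPIn.le_of_normalizer {T H N : Subgroup G} (h : IsMaxPIn p T H) (hN : N ≤ H)
    (hNp : IsPGroup p N) (hTN : T ≤ normalizer (N : Set G)) : N ≤ T := by
  have e := h.2.2 (T ⊔ N) (sup_le h.1 hN) (h.2.1.to_sup_of_normal_right' hNp hTN) le_sup_left
  exact le_sup_right.trans e.le

/-- Sylow's theorem inside the subgroup `H`. -/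
theorem IsMaxPIn.exists_conj_le [Finite G] [Fact p.Prime] {T H P : Subgroup G} (h : IsMaxPIn p T H)
    (hP : P ≤ H) (hPp : IsPGroup p P) : ∃ m ∈ H, ∀ x ∈ P, m * x * m⁻¹ ∈ T := by
  let T' : Sylow p ↥H :=
    { toSubgroup := T.subgroupOf H
      isPGroup' := h.2.1.comap_subtype
      is_maximal' := fun {X} hX hle => by
        have e := h.2.2 (X.map H.subtype) (map_subtype_le X) (hX.map _)
          (by rw [← map_subgroupOf_eq_of_le h.1]; exact map_mono hle)
        exact map_injective H.subtype_injective (e.trans (map_subgroupOf_eq_of_le h.1).symm) }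
  obtain ⟨Q, hQ⟩ := (hPp.comap_subtype (K := H)).exists_le_sylow
  obtain ⟨m, hm⟩ := MulAction.exists_smul_eq ↥H Q T'
  refine ⟨m, m.2, fun x hx => ?_⟩
  have h1 : (⟨x, hP hx⟩ : ↥H) ∈ (Q : Subgroup ↥H) := hQ hx
  have h2 : m * ⟨x, hP hx⟩ * m⁻¹ ∈ (T' : Subgroup ↥H) := by
    rw [← hm, Sylow.coe_subgroup_smul, pointwise_smul_def]
    exact ⟨_, h1, rfl⟩
  exact h2

theorem comm_mul_left (a b v : G) : ⁅a * b, v⁆ = a * ⁅b, v⁆ * a⁻¹ * ⁅a, v⁆ := by
  simp only [commutatorElement_def]; group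

theorem comm_conj (g c v : G) :
    ⁅g * c * g⁻¹, v⁆ = g * ⁅c, g⁻¹ * v * g⁆ * g⁻¹ := by
  simp only [commutatorElement_def]; group

theorem conj_eq_comm_mul (a v : G) : a * v * a⁻¹ = ⁅a, v⁆ * v := by
  simp only [commutatorElement_def]; group

theorem comm_self_sq {a v : G} (h : Commute a ⁅a, v⁆) : ⁅a * a, v⁆ = ⁅a, v⁆ * ⁅a, v⁆ := by
  rw [comm_mul_left, h.eq, mul_inv_cancel_right]

end CfsgLib.S4Free
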