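import Cfsg.Agent.Lib.S4Free.Offender
import Cfsg.Agent.Lib.PLocal.Thompson
import Cfsg.Agent.Lib.PLocal.Constrained
import Cfsg.Agent.Lib.Solvable.Core

/-!
In an `S₄`-free group with `C(O₂) ≤ O₂` and Sylow `2`-subgroups of class at most two, the Thompson
subgroup of a Sylow `2`-subgroup is normal.
-/

set_option autoImplicit false

namespace CfsgLib.S4Free

open Subgroup Cfsg
open scoped commutatorElement

theorem fix_of_prime_two {G : Type*} [Group G] {y d : G} {q k : ℕ} (hq : q.Prime) (hq2 : q ≠ 2)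
    (hyd : Commute y d) (hd : d ^ 2 ^ k = 1) {w : G} (hw : y * w * y⁻¹ = d * w) (hy : y ^ q = 1) :
    d = 1 := by
  have h : ∀ n : ℕ, y ^ n * w * (y ^ n)⁻¹ = d ^ n * w := fun n => by
    induction n with
    | zero => simp
    | succ n ih =>
      calc y ^ (n + 1) * w * (y ^ (n + 1))⁻¹ = y ^ n * (y * w * y⁻¹) * (y ^ n)⁻¹ := by
            rw [pow_succ]; group
        _ = y ^ n * d * (y ^ n)⁻¹ * (y ^ n * w * (y ^ n)⁻¹) := by rw [hw]; group
        _ = d * (d ^ n * w) := by rw [(hyd.pow_left n).eq, mul_inv_cancel_right, ih]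
        _ = d ^ (n + 1) * w := by rw [← mul_assoc, ← pow_succ']
  have h1 := h q
  rw [hy, one_mul, inv_one, mul_one] at h1
  have h2 : d ^ q = 1 := by simpa using h1
  exact orderOf_eq_one_iff.1 (Nat.eq_one_of_dvd_coprimes
    (Nat.Coprime.pow_right k ((Nat.coprime_primes hq Nat.prime_two).2 hq2))
    (orderOf_dvd_of_pow_eq_one h2) (orderOf_dvd_of_pow_eq_one hd))

variable {G : Type*} [Group G] [Finite G]

theorem thompson_normal (hc : centralizer (pCore 2 G : Set G) ≤ pCore 2 G)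
    (hS4 : ¬ Involves (Equiv.Perm (Fin 4)) G) (S : Sylow 2 G)
    (hcl : ⁅⁅(S : Subgroup G), (S : Subgroup G)⁆, (S : Subgroup G)⁆ = ⊥) :
    normalizer (thompsonSubgroupOf 2 (S : Subgroup G) : Set G) = ⊤ := by
  classical
  haveI : Fact (Nat.Prime 2) := ⟨Nat.prime_two⟩
  set Q := pCore 2 G with hQdef
  haveI hQn : Q.Normal := CfsgLib.Solvable.pCore_normal (p := 2) G
  have hQp : IsPGroup 2 Q := CfsgLib.Solvable.pCore_isPGroup (p := 2) G
  have hQS : Q ≤ (S : Subgroup G) := CfsgLib.Solvable.pCore_le_sylow S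
  by_cases hJ : thompsonSubgroupOf 2 (S : Subgroup G) ≤ Q
  · rw [← CfsgLib.PLocal.thompsonSubgroupOf_eq_of_le hQS hJ, eq_top_iff,
      ← normalizer_eq_top_iff.2 hQn]
    exact CfsgLib.PLocal.normalizer_le_normalizer_thompsonSubgroupOf Q
  exfalso
  rw [CfsgLib.PLocal.thompsonSubgroupOf_eq, sSup_le_iff] at hJ
  push Not at hJ
  obtain ⟨A, hA, hAQ⟩ := hJ
  set G0 := normalClosure ((S : Subgroup G) : Set G) with hG0
  have hSG0 : (S : Subgroup G) ≤ G0 := le_normalClosure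
  have hSc : ∀ x ∈ (S : Subgroup G), ∀ y ∈ (S : Subgroup G), ∀ z ∈ (S : Subgroup G),
      Commute z ⁅x, y⁆ := fun x hx y hy z hz => (mem_centralizer_iff.1
    ((commutator_eq_bot_iff_le_centralizer.1 hcl) (commutator_mem_commutator hx hy)) z hz)
  have hQC : ∀ x, (∀ w ∈ Q, Commute w x) → x ∈ Q := fun x h => hc (mem_centralizer_iff.2 h)
  let V : Subgroup G :=
    { carrier := {x | (x ∈ Q ∧ ∀ w ∈ Q, Commute w x) ∧ x ^ 2 = 1}
      one_mem' := ⟨⟨one_mem Q, fun w _ => Commute.one_right w⟩, one_pow 2⟩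
      mul_mem' := fun {x y} hx hy => ⟨⟨mul_mem hx.1.1 hy.1.1,
        fun w hw => (hx.1.2 w hw).mul_right (hy.1.2 w hw)⟩,
        by rw [(hy.1.2 x hx.1.1).mul_pow, hx.2, hy.2, one_mul]⟩
      inv_mem' := fun {x} hx => ⟨⟨inv_mem hx.1.1, fun w hw => (hx.1.2 w hw).inv_right⟩,
        by rw [inv_pow, hx.2, inv_one]⟩ }
  haveI : V.Normal := ⟨fun x hx g => ⟨⟨hQn.conj_mem x hx.1.1 g, fun w hw => by
    have h := (hx.1.2 (g⁻¹ * w * g) (by simpa using hQn.conj_mem w hw g⁻¹)).map (MulAut.conj g).toMonoidHom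
    simpa [mul_assoc] using h⟩, by rw [conj_pow, hx.2, mul_one, mul_inv_cancel]⟩⟩
  have hVea : IsElementaryAbelian 2 V :=
    ⟨IsMulCommutative.of_setLike_mul_comm fun x hx y hy => (hy.1.2 x hx.1.1).eq, fun x hx => hx.2⟩
  have hQV : Q ≤ centralizer (V : Set G) :=
    fun q hq => mem_centralizer_iff.2 fun v hv => (hv.1.2 q hq).symm
  have hVS : V ≤ (S : Subgroup G) := fun x hx => hQS hx.1.1
  -- `S` acts trivially on `Q/Z(Q)`
  let K1 : Subgroup G :=
    { carrier := {g | ∀ w ∈ Q, ∀ w' ∈ Q, Commute w' ⁅g, w⁆}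
      one_mem' := fun w _ w' _ => by simp
      mul_mem' := fun {g h} hg hh w hw w' hw' => by
        rw [comm_mul_left]
        refine Commute.mul_right ?_ (hg w hw w' hw')
        have e : g * ⁅h, w⁆ * g⁻¹ = ⁅g, ⁅h, w⁆⁆ * ⁅h, w⁆ := conj_eq_comm_mul g _
        rw [e]
        have hmem : ⁅h, w⁆ ∈ Q := mul_mem (hQn.conj_mem w hw h) (inv_mem hw)
        exact (hg _ hmem w' hw').mul_right (hh w hw w' hw')
      inv_mem' := fun {g} hg w hw w' hw' => by
        have hmem : g⁻¹ * w * g ∈ Q := by simpa using hQn.conj_mem w hw g⁻¹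
        rw [show ⁅g⁻¹, w⁆ = ⁅g, g⁻¹ * w * g⁆⁻¹ by simp only [commutatorElement_def]; group]
        exact (hg _ hmem w' hw').inv_right }
  haveI : K1.Normal := ⟨fun x hx g w hw w' hw' => by
    have h := (hx (g⁻¹ * w * g) (by simpa using hQn.conj_mem w hw g⁻¹) _ (by simpa using hQn.conj_mem w' hw' g⁻¹ :
      g⁻¹ * w' * g ∈ Q)).map (MulAut.conj g).toMonoidHom
    simpa [mul_assoc] using h⟩
  have hG0K : G0 ≤ K1 := normalClosure_le_normal fun s hs w hw w' hw' =>
    hSc s hs w (hQS hw) w' (hQS hw')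
  have hK : IsPGroup 2 ↥(G0 ⊓ centralizer (V : Set G)) := by
    have key : ∀ (q : ℕ), q.Prime → q ≠ 2 → ∀ y ∈ G0, y ∈ centralizer (V : Set G) → y ^ q = 1 → y = 1 := by
      intro q hq hq2 y hy hyV hyq
      have hQ2 : ∀ w ∈ Q, ∃ k, w ^ 2 ^ k = 1 := fun w hw => by
        obtain ⟨k, hk⟩ := hQp ⟨w, hw⟩; exact ⟨k, congrArg Subtype.val hk⟩
      have hZ : ∀ k, ∀ z ∈ Q, (∀ w ∈ Q, Commute w z) → z ^ 2 ^ k = 1 → Commute y z := by
        intro k
        induction k with
        | zero => intro z _ _ h; rw [pow_zero, pow_one] at h; rw [h]; exact Commute.one_right y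
        | succ k ih =>
          intro z hz hzc hzk
          set d := y * z * y⁻¹ * z⁻¹ with hddef
          have hzc' : ∀ w ∈ Q, Commute w (y * z * y⁻¹) := fun w hw => by
            have h := (hzc (y⁻¹ * w * y) (by simpa using hQn.conj_mem w hw y⁻¹)).map (MulAut.conj y).toMonoidHom
            simpa [mul_assoc] using h
          have h2 : Commute y (z ^ 2) := ih (z ^ 2) (pow_mem hz 2) (fun w hw => (hzc w hw).pow_right 2)
            (by rw [← pow_mul, ← pow_succ']; exact hzk)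
          have hdV : d ∈ V := ⟨⟨mul_mem (hQn.conj_mem z hz y) (inv_mem hz),
            fun w hw => (hzc' w hw).mul_right (hzc w hw).inv_right⟩, by
            rw [hddef, (hzc' _ (inv_mem hz)).symm.mul_pow, conj_pow, h2.eq, mul_inv_cancel_right,
              inv_pow, mul_inv_cancel]⟩
          have hd1 := fix_of_prime_two hq hq2
            ((mem_centralizer_iff.1 hyV d hdV).symm) (k := 1) (by rw [pow_one]; exact hdV.2)
            (w := z) (by rw [hddef]; group) hyq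
          exact (mul_inv_eq_iff_eq_mul.1 (mul_inv_eq_one.1 hd1))
      have hyQ : y ∈ Q := hQC y fun w hw => by
        set d := ⁅y, w⁆ with hddef
        obtain ⟨k, hk⟩ := hQ2 d (mul_mem (hQn.conj_mem w hw y) (inv_mem hw))
        have hd : Commute y d := hZ k d (mul_mem (hQn.conj_mem w hw y) (inv_mem hw))
          (fun w' hw' => hG0K hy w hw w' hw') hk
        have hd1 := fix_of_prime_two hq hq2 hd hk (w := w)
          (by rw [hddef, conj_eq_comm_mul]) hyq
        exact (commutatorElement_eq_one_iff_commute.1 hd1).symm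
      obtain ⟨k, hk⟩ := hQ2 y hyQ
      exact orderOf_eq_one_iff.1 (Nat.eq_one_of_dvd_coprimes
        (Nat.Coprime.pow_right k ((Nat.coprime_primes hq Nat.prime_two).2 hq2))
        (orderOf_dvd_of_pow_eq_one hyq) (orderOf_dvd_of_pow_eq_one hk))
    rw [IsPGroup.iff_card]
    refine ⟨_, Nat.eq_prime_pow_of_unique_prime_dvd Nat.card_pos.ne' fun {q} hq hdvd => ?_⟩
    by_contra hq2
    haveI : Fact q.Prime := ⟨hq⟩
    obtain ⟨y, hy⟩ := exists_prime_orderOf_dvd_card' (G := ↥(G0 ⊓ centralizer (V : Set G))) q hdvd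
    have h1 := key q hq hq2 y y.2.1 y.2.2 (by rw [← hy, ← Subgroup.orderOf_coe]; exact pow_orderOf_eq_one _)
    rw [← Subgroup.orderOf_coe, h1, orderOf_one] at hy
    exact hq.ne_one hy.symm
  have hfaith : ∀ x ∈ G0, x ∈ centralizer (V : Set G) → x ∈ Q :=
    fun x hx hxV => CfsgLib.Solvable.le_pCore inferInstance hK ⟨hx, hxV⟩
  have hab : ∀ P : Subgroup G, P ≤ G0 → IsPGroup 2 P → ⁅P, P⁆ ≤ Q := by
    intro P _ hP
    obtain ⟨T, hT⟩ := hP.exists_le_sylow
    obtain ⟨g, rfl⟩ := MulAction.exists_smul_eq G S T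
    refine commutator_le.2 fun x hx y hy => ?_
    obtain ⟨x', hx', rfl⟩ := hT hx
    obtain ⟨y', hy', rfl⟩ := hT hy
    have h : ⁅x', y'⁆ ∈ Q := hQC _ fun w hw => hSc x' hx' y' hy' w (hQS hw)
    show ⁅(MulAut.conj g).toMonoidHom x', (MulAut.conj g).toMonoidHom y'⁆ ∈ Q
    rw [← map_commutatorElement]
    exact hQn.conj_mem _ h g
  -- the offender
  have hA1S : A ⊔ Q ≤ (S : Subgroup G) := sup_le hA.1 hQS
  have hA1p : IsPGroup 2 ↥(A ⊔ Q) := S.isPGroup'.to_le hA1S
  have hquad : ⁅⁅V, A ⊔ Q⁆, A ⊔ Q⁆ = ⊥ :=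
    le_bot_iff.1 ((commutator_mono (commutator_mono hVS hA1S) hA1S).trans hcl.le)
  have hmax : ∀ B : Subgroup G, B ≤ A → IsElementaryAbelian 2 (B ⊔ (V ⊓ centralizer (B : Set G))) ∧
      B ⊔ (V ⊓ centralizer (B : Set G)) ≤ (S : Subgroup G) := fun B hB =>
    ⟨CfsgLib.PLocal.isEA_sup (CfsgLib.PLocal.isEA_mono hA.2.1 hB)
      (CfsgLib.PLocal.isEA_mono hVea inf_le_left) (le_centralizer_iff.1 inf_le_right),
      sup_le (hB.trans hA.1) (inf_le_left.trans hVS)⟩
  have hcentA : V ⊓ centralizer ((A ⊔ Q : Subgroup G) : Set G) = V ⊓ centralizer (A : Set G) := by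
    refine le_antisymm (inf_le_inf_left _ (centralizer_le (le_sup_left : A ≤ A ⊔ Q))) (le_inf inf_le_left ?_)
    refine le_centralizer_iff.1 (sup_le (le_centralizer_iff.1 inf_le_right) ?_)
    exact hQV.trans (centralizer_le inf_le_left)
  have hXA : V ⊓ centralizer (A : Set G) ≤ A := by
    obtain ⟨h1, h2⟩ := hmax A le_rfl
    have := eq_of_le_of_card_ge le_sup_left (hA.2.2 _ h2 h1)
    exact le_sup_right.trans this.ge
  have hbest : ∀ B : Subgroup G, Q ≤ B → B ≤ A ⊔ Q →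
      Nat.card B * Nat.card ↥(V ⊓ centralizer (B : Set G)) ≤
        Nat.card ↥(A ⊔ Q) * Nat.card ↥(V ⊓ centralizer ((A ⊔ Q : Subgroup G) : Set G)) := by
    intro B hQB hBA
    rw [hcentA]
    set B' := B ⊓ A with hB'
    have hBeq : B = B' ⊔ Q := by
      refine le_antisymm (fun x hx => ?_) (sup_le inf_le_left hQB)
      obtain ⟨a, ha, q, hq, rfl⟩ := mem_sup_of_normal_right.1 (hBA hx)
      have : a ∈ B := by
        have := mul_mem hx (inv_mem (hQB hq))
        rwa [mul_inv_cancel_right] at this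
      exact mul_mem (mem_sup_left ⟨this, ha⟩) (mem_sup_right hq)
    have hinf : B' ⊓ Q = A ⊓ Q := le_antisymm (inf_le_inf_right _ inf_le_right)
      fun x hx => ⟨⟨hQB hx.2, hx.1⟩, hx.2⟩
    have hcard : ∀ C : Subgroup G,
        Nat.card ↥(C ⊔ Q) * Nat.card ↥(C ⊓ Q) = Nat.card C * Nat.card Q := fun C => by
      refine le_antisymm ?_ (CfsgLib.PLocal.card_mul_card_le_sup_inf C Q)
      have h1 := Subgroup.relIndex_mul_relIndex ⊥ Q (C ⊔ Q) bot_le le_sup_right
      have h2 := Subgroup.relIndex_mul_relIndex ⊥ (C ⊓ Q) C bot_le inf_le_left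
      rw [relIndex_bot_left, relIndex_bot_left, relIndex_sup_right] at h1
      rw [relIndex_bot_left, relIndex_bot_left, inf_relIndex_left] at h2
      rw [← h1, ← h2, mul_comm (Nat.card Q), mul_assoc, mul_comm (Nat.card ↥(C ⊓ Q))]
      exact le_of_eq (by ring)
    have hcB : V ⊓ centralizer (B : Set G) ≤ V ⊓ centralizer (B' : Set G) :=
      inf_le_inf_left _ (centralizer_le inf_le_left)
    have hi : B' ⊓ (V ⊓ centralizer (B' : Set G)) ≤ V ⊓ centralizer (A : Set G) := fun x hx =>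
      ⟨hx.2.1, mem_centralizer_iff.2 fun a ha => by
        haveI := hA.2.1.1
        exact congrArg Subtype.val (mul_comm' (⟨a, ha⟩ : ↥A) ⟨x, hx.1.2⟩)⟩
    obtain ⟨h1, h2⟩ := hmax B' inf_le_right
    have h3 : Nat.card B' * Nat.card ↥(V ⊓ centralizer (B : Set G)) ≤
        Nat.card A * Nat.card ↥(V ⊓ centralizer (A : Set G)) :=
      (Nat.mul_le_mul_left _ (card_le_of_le hcB)).trans
        ((CfsgLib.PLocal.card_mul_card_le_sup_inf _ _).trans
          (Nat.mul_le_mul (hA.2.2 _ h2 h1) (card_le_of_le hi)))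
    refine Nat.le_of_mul_le_mul_right (c := Nat.card ↥(A ⊓ Q)) ?_ Nat.card_pos
    calc Nat.card B * Nat.card ↥(V ⊓ centralizer (B : Set G)) * Nat.card ↥(A ⊓ Q)
        = Nat.card ↥(B' ⊔ Q) * Nat.card ↥(B' ⊓ Q) * Nat.card ↥(V ⊓ centralizer (B : Set G)) := by
          rw [hinf, ← hBeq]; ring
      _ = Nat.card B' * Nat.card ↥(V ⊓ centralizer (B : Set G)) * Nat.card Q := by
          rw [hcard]; ring
      _ ≤ Nat.card A * Nat.card ↥(V ⊓ centralizer (A : Set G)) * Nat.card Q :=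
          Nat.mul_le_mul_right _ h3
      _ = Nat.card ↥(A ⊔ Q) * Nat.card ↥(A ⊓ Q) * Nat.card ↥(V ⊓ centralizer (A : Set G)) := by
          rw [hcard]; ring
      _ = _ := by ring
  have hAnot : ∀ N : Subgroup G, N ≤ G0 → IsPGroup 2 N → G0 ≤ normalizer (N : Set G) → ¬ A ⊔ Q ≤ N := by
    intro N _ hN hnorm hle
    refine hAQ ((le_sup_left.trans hle).trans ?_)
    rw [hQdef, CfsgLib.Solvable.pCore_eq_iInf_sylow]
    refine le_iInf fun T => ?_
    obtain ⟨g, hg⟩ := MulAction.exists_smul_eq G S T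
    have hTG0 : (T : Subgroup G) ≤ G0 := by
      rw [← hg]; rintro _ ⟨x, hx, rfl⟩
      exact normalClosure_normal.conj_mem x (hSG0 hx) g
    have e := T.is_maximal' (T.isPGroup'.to_sup_of_normal_right' hN (hTG0.trans hnorm)) le_sup_left
    exact le_sup_right.trans e.le
  exact hS4 (involves_S4_of_offender V Q G0 (A ⊔ Q) hVea hQp hQV hfaith hab (sup_le (hA.1.trans hSG0)
    (hQS.trans hSG0)) hA1p le_sup_right hquad hbest hAnot)

end CfsgLib.S4Free
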