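import Cfsg.Agent.Lib.S4Free.Section
import Cfsg.Agent.Lib.PLocal.Replacement

/-!
A quadratic best offender not contained in a normal `2`-subgroup, in a group whose `2`-subgroups
are abelian modulo the kernel, produces a section isomorphic to `S₄`.
-/

set_option autoImplicit false

namespace CfsgLib.S4Free

open Subgroup Cfsg
open scoped commutatorElement

variable {G : Type*} [Group G] [Finite G]

theorem involves_S4_of_offender (V Q G0 A : Subgroup G) [V.Normal] [Q.Normal]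
    (hV : IsElementaryAbelian 2 V) (hQ : IsPGroup 2 Q) (hQV : Q ≤ centralizer (V : Set G))
    (hfaith : ∀ x ∈ G0, x ∈ centralizer (V : Set G) → x ∈ Q)
    (hab : ∀ P : Subgroup G, P ≤ G0 → IsPGroup 2 P → ⁅P, P⁆ ≤ Q)
    (hAG : A ≤ G0) (hA : IsPGroup 2 A) (hQA : Q ≤ A) (hquad : ⁅⁅V, A⁆, A⁆ = ⊥)
    (hbest : ∀ B : Subgroup G, Q ≤ B → B ≤ A →
      Nat.card B * Nat.card ↥(V ⊓ centralizer (B : Set G)) ≤
        Nat.card A * Nat.card ↥(V ⊓ centralizer (A : Set G)))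
    (hAnot : ∀ N : Subgroup G, N ≤ G0 → IsPGroup 2 N → G0 ≤ normalizer (N : Set G) → ¬ A ≤ N) :
    Involves (Equiv.Perm (Fin 4)) G := by
  classical
  have hsq : ∀ x ∈ V, x * x = 1 := fun x hx => by rw [← sq]; exact hV.2 x hx
  have hcom : ∀ x ∈ V, ∀ y ∈ V, x * y = y * x := fun x hx y hy => by
    haveI := hV.1
    exact congrArg Subtype.val (mul_comm' (⟨x, hx⟩ : ↥V) ⟨y, hy⟩)
  have hVc : ∀ x ∈ V, ∀ g, g * x * g⁻¹ ∈ V := fun x hx g => Subgroup.Normal.conj_mem inferInstance x hx g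
  have hVd : ∀ x ∈ V, ∀ g, ⁅g, x⁆ ∈ V := fun x hx g => mul_mem (hVc x hx g) (inv_mem hx)
  -- a minimal subgroup `L`
  let Bad : Subgroup G → Prop := fun H =>
    ∀ N : Subgroup G, N ≤ H → IsPGroup 2 N → H ≤ normalizer (N : Set G) → ¬ A ≤ N
  obtain ⟨L, ⟨hAL, hLG, hLbad⟩, hLmin⟩ := Set.Finite.exists_minimal
    (s := {H : Subgroup G | A ≤ H ∧ H ≤ G0 ∧ Bad H}) (Set.toFinite _) ⟨G0, hAG, le_rfl, hAnot⟩
  have hsmall : ∀ H, A ≤ H → H ≤ L → H ≠ L →
      ∃ N, N ≤ H ∧ IsPGroup 2 N ∧ H ≤ normalizer (N : Set G) ∧ A ≤ N := by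
    intro H hAH hHL hne
    by_contra hc
    exact hne (le_antisymm hHL (hLmin ⟨hAH, hHL.trans hLG, fun N h1 h2 h3 h4 =>
      hc ⟨N, h1, h2, h3, h4⟩⟩ hHL))
  have hLA : ¬ L ≤ normalizer (A : Set G) := fun h => hLbad A hAL hA h le_rfl
  -- conjugates
  have hconjL : ∀ l ∈ L, ∀ y ∈ L, l * y * l⁻¹ ∈ L := fun l hl y hy =>
    mul_mem (mul_mem hl hy) (inv_mem hl)
  have hcsmall : ∀ H, H ≤ L → H ≠ L → ∀ l ∈ L, (∀ a ∈ A, l * a * l⁻¹ ∈ H) →
      ∀ T, IsMaxPIn 2 T L → T ≤ H → ∀ h ∈ H, ∀ a ∈ A, h * (l * a * l⁻¹) * h⁻¹ ∈ T := by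
    intro H hHL hne l hl hlA T hT hTH h hh a ha
    let H' := H.comap (MulAut.conj l).toMonoidHom
    have hm : ∀ y, y ∈ H' ↔ l * y * l⁻¹ ∈ H := fun y => Iff.rfl
    have hH'L : H' ≤ L := fun y hy => by
      have := mul_mem (mul_mem (inv_mem hl) (hHL ((hm y).1 hy))) hl
      rwa [show l⁻¹ * (l * y * l⁻¹) * l = y by group] at this
    have hH'ne : H' ≠ L := fun e => hne (le_antisymm hHL fun y hy => by
      have h1 : l⁻¹ * y * l ∈ H' := e ▸ mul_mem (mul_mem (inv_mem hl) hy) hl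
      rwa [hm, show l * (l⁻¹ * y * l) * l⁻¹ = y by group] at h1)
    obtain ⟨N, hNH, hNp, hNn, hAN⟩ := hsmall H' (fun a ha => hlA a ha) hH'L hH'ne
    let N' := N.map (MulAut.conj l).toMonoidHom
    have hN'H : N' ≤ H := by rintro _ ⟨y, hy, rfl⟩; exact hNH hy
    have hnorm : H ≤ normalizer (N' : Set G) := by
      intro y hy
      refine mem_normalizer_fintype ?_
      rintro _ ⟨n, hn, rfl⟩
      have hy' : l⁻¹ * y * l ∈ normalizer (N : Set G) := hNn (by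
        rw [hm, show l * (l⁻¹ * y * l) * l⁻¹ = y by group]; exact hy)
      refine ⟨_, (mem_normalizer_iff.1 hy' n).1 hn, ?_⟩
      simp only [MulEquiv.coe_toMonoidHom, MulAut.conj_apply]; group
    have hN'T : N' ≤ T := (hT.of_le hTH hHL).le_of_normalizer hN'H (hNp.map _) (hTH.trans hnorm)
    exact hN'T ((mem_normalizer_iff.1 (hnorm hh) _).1 ⟨a, hAN ha, rfl⟩)
  let E : Subgroup G → Subgroup G := fun T =>
    closure {x | ∃ l ∈ L, (∀ a ∈ A, l * a * l⁻¹ ∈ T) ∧ ∃ a ∈ A, x = l * a * l⁻¹}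
  have hET : ∀ T, E T ≤ T := fun T => (closure_le _).2 (by
    rintro x ⟨l, _, hlT, a, ha, rfl⟩; exact hlT a ha)
  have hAE : ∀ T, A ≤ T → A ≤ E T := fun T hAT a ha =>
    subset_closure ⟨1, one_mem L, fun a ha => by simpa using hAT ha, a, ha, by simp⟩
  have hEnot : ∀ T, IsMaxPIn 2 T L → A ≤ T → ¬ L ≤ normalizer (E T : Set G) := fun T hT hAT h =>
    hLbad (E T) ((hET T).trans hT.1) (hT.2.1.to_le (hET T)) h (hAE T hAT)
  have hkey : ∀ T H, IsMaxPIn 2 T L → T ≤ H → H ≤ L → H ≠ L → H ≤ normalizer (E T : Set G) := by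
    intro T H hT hTH hHL hne h hh
    refine mem_normalizer_fintype ?_
    intro x hx
    have hle : E T ≤ (E T).comap (MulAut.conj h).toMonoidHom := by
      refine (closure_le _).2 ?_
      rintro y ⟨l, hl, hlT, a, ha, rfl⟩
      refine subset_closure ⟨h * l, mul_mem (hHL hh) hl, fun a' ha' => ?_, a, ha, ?_⟩
      · have := hcsmall H hHL hne l hl (fun b hb => hTH (hlT b hb)) T hT hTH h hh a' ha'
        rwa [show h * l * a' * (h * l)⁻¹ = h * (l * a' * l⁻¹) * h⁻¹ by group]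
      · simp only [MulEquiv.coe_toMonoidHom, MulAut.conj_apply]; group
    exact hle hx
  have hTN : ∀ T, IsMaxPIn 2 T L → ∀ N, N ≤ T → A ≤ N → T ≤ normalizer (N : Set G) := by
    intro T hT N hNT hAN t ht
    refine mem_normalizer_fintype fun n hn => ?_
    show t * n * t⁻¹ ∈ N
    rw [conj_eq_comm_mul]
    exact mul_mem (hAN (hQA (hab T (hT.1.trans hLG) hT.2.1 (commutator_mem_commutator ht (hNT hn))))) hn
  have hkey2 : ∀ H, A ≤ H → H ≤ L → H ≠ L →
      ∃ T, IsMaxPIn 2 T L ∧ A ≤ T ∧ H ≤ L ⊓ normalizer (E T : Set G) := by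
    intro H hAH hHL hne
    obtain ⟨H', hHH', hH'⟩ := Set.Finite.exists_le_maximal
      (Set.toFinite {X : Subgroup G | X ≤ L ∧ X ≠ L}) (a := H) ⟨hHL, hne⟩
    obtain ⟨N, hNH, hNp, hNn, hAN⟩ := hsmall H' (hAH.trans hHH') hH'.prop.1 hH'.prop.2
    obtain ⟨T, hT, hNT⟩ := exists_isMaxPIn (hNH.trans hH'.prop.1) hNp
    have hle : H' ≤ L ⊓ normalizer (N : Set G) := le_inf hH'.prop.1 hNn
    have hneq : L ⊓ normalizer (N : Set G) ≠ L := fun e =>
      hLbad N (hNH.trans hH'.prop.1) hNp (inf_eq_left.1 e) hAN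
    have hTH' : T ≤ H' := (le_inf hT.1 (hTN T hT N hNT hAN)).trans (hH'.2 ⟨inf_le_left, hneq⟩ hle)
    exact ⟨T, hT, hAN.trans hNT,
      le_inf hHL (hHH'.trans (hkey T H' hT hTH' hH'.prop.1 hH'.prop.2))⟩
  -- the unique maximal subgroup `M` over `A`
  obtain ⟨T0, hT0, hAT0, hNA⟩ := hkey2 (L ⊓ normalizer (A : Set G)) (le_inf hAL le_normalizer)
    inf_le_left (fun e => hLA (inf_eq_left.1 e))
  set M := L ⊓ normalizer (E T0 : Set G) with hMdef
  have hMne : M ≠ L := fun e => hEnot T0 hT0 hAT0 (inf_eq_left.1 e)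
  have hAM : A ≤ M := (le_inf hAL le_normalizer).trans hNA
  have hTM : ∀ T, IsMaxPIn 2 T L → A ≤ T → T ≤ M := fun T hT hAT =>
    (le_inf hT.1 (hTN T hT A hAT le_rfl)).trans hNA
  have hmaxM : ∀ X, M ≤ X → X ≤ L → X ≠ L → X ≤ M := fun X hMX hXL hne =>
    le_inf hXL (hkey T0 X hT0 ((hTM T0 hT0 hAT0).trans hMX) hXL hne)
  have hM : ∀ H, A ≤ H → H ≤ L → H ≠ L → H ≤ M := by
    intro H hAH hHL hne
    obtain ⟨T, hT, hAT, hHT⟩ := hkey2 H hAH hHL hne
    refine hHT.trans (hmaxM _ (le_inf inf_le_left (hkey T M hT (hTM T hT hAT) inf_le_left hMne))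
      inf_le_left (fun e => hEnot T hT hAT (inf_eq_left.1 e)))
  have hNM : ∀ x ∈ L, (∀ y ∈ M, x * y * x⁻¹ ∈ M) → x ∈ M := by
    intro x hx hxM
    by_contra hxn
    have hMn : M ≤ L ⊓ normalizer (M : Set G) := le_inf inf_le_left le_normalizer
    have hall : L ≤ normalizer (M : Set G) := by
      by_contra hc
      exact hxn (hmaxM _ hMn inf_le_left (fun e => hc (inf_eq_left.1 e))
        ⟨hx, mem_normalizer_fintype hxM⟩)
    refine hEnot T0 hT0 hAT0 fun y hy => mem_normalizer_fintype fun z hz => ?_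
    have hle : E T0 ≤ (E T0).comap (MulAut.conj y).toMonoidHom := by
      refine (closure_le _).2 ?_
      rintro z' ⟨l, hl, _, a, ha, rfl⟩
      refine subset_closure ⟨y * l, mul_mem hy hl, fun a' ha' => ?_, a, ha, ?_⟩
      · have h1 : ∀ b ∈ A, y * l * b * (y * l)⁻¹ ∈ M := fun b hb =>
          (mem_normalizer_iff.1 (hall (mul_mem hy hl)) b).1 (hAM hb)
        simpa using hcsmall M inf_le_left hMne (y * l) (mul_mem hy hl) h1 T0 hT0 (hTM T0 hT0 hAT0) 1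
          (one_mem M) a' ha'
      · simp only [MulEquiv.coe_toMonoidHom, MulAut.conj_apply]; group
    exact hle hz
  -- the central part `B0`
  let π := QuotientGroup.mk' Q
  have hπ : ∀ y z, Commute (π y) (π z) ↔ ⁅y, z⁆ ∈ Q := fun y z => by
    rw [← commutatorElement_eq_one_iff_commute, ← map_commutatorElement, ← QuotientGroup.eq_one_iff]
    rfl
  let cen : G → Subgroup G := fun c => L ⊓ (centralizer ({π c} : Set (G ⧸ Q))).comap π
  have hcen : ∀ c l, l ∈ cen c ↔ l ∈ L ∧ ⁅c, l⁆ ∈ Q := fun c l => by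
    rw [← hπ]
    refine and_congr Iff.rfl ?_
    show π l ∈ centralizer ({π c} : Set (G ⧸ Q)) ↔ _
    rw [mem_centralizer_iff]
    exact ⟨fun h => h (π c) rfl, fun h y hy => by rw [Set.mem_singleton_iff.1 hy]; exact h⟩
  let B0 := A ⊓ (centralizer (π '' (L : Set G))).comap π
  have hB0 : ∀ c, c ∈ B0 ↔ c ∈ A ∧ ∀ l ∈ L, ⁅c, l⁆ ∈ Q := fun c => by
    refine and_congr Iff.rfl ?_
    show π c ∈ centralizer (π '' (L : Set G)) ↔ _
    rw [mem_centralizer_iff]
    refine ⟨fun h l hl => (hπ c l).1 (h (π l) ⟨l, hl, rfl⟩).symm, ?_⟩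
    rintro h _ ⟨l, hl, rfl⟩
    exact ((hπ c l).2 (h l hl)).symm
  have hQB0 : Q ≤ B0 := fun q hq => (hB0 q).2 ⟨hQA hq, fun l _ => by
    rw [commutatorElement_def, mul_assoc, mul_assoc, ← mul_assoc l]
    exact mul_mem hq (Subgroup.Normal.conj_mem inferInstance _ (inv_mem hq) l)⟩
  have hB0ne : ¬ A ≤ B0 := fun h => hLA fun l hl => mem_normalizer_fintype fun a ha => by
    show l * a * l⁻¹ ∈ A
    rw [conj_eq_comm_mul]
    refine mul_mem (hQA ?_) ha
    have := ((hB0 a).1 (h ha)).2 l hl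
    rw [← commutatorElement_inv]; exact inv_mem this
  have hinter : ∀ g ∈ L, g ∉ M → ∀ c ∈ A, g * c * g⁻¹ ∈ M → c ∈ B0 := by
    intro g hg hgM c hc hcM
    by_contra hcB
    have hcenle : cen c ≤ M := by
      refine hM _ (fun a ha => (hcen c a).2 ⟨hAL ha, hab A hAG hA (commutator_mem_commutator hc ha)⟩)
        inf_le_left fun e => hcB ((hB0 c).2 ⟨hc, fun l hl => ?_⟩)
      exact ((hcen c l).1 (e.ge hl)).2
    have hbp : IsPGroup 2 ↥(zpowers (g * c * g⁻¹)) :=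
      (hA.map (MulAut.conj g).toMonoidHom).to_le (zpowers_le.2 ⟨c, hc, rfl⟩)
    obtain ⟨m, hm, hmT⟩ := (hT0.of_le (hTM T0 hT0 hAT0) inf_le_left).exists_conj_le
      (zpowers_le.2 hcM) hbp
    set k := m * g with hk
    have hkL : k ∈ L := mul_mem (inf_le_left (a := L) hm) hg
    have hb' : k * c * k⁻¹ ∈ T0 := by
      have := hmT _ (mem_zpowers _)
      rwa [show m * (g * c * g⁻¹) * m⁻¹ = k * c * k⁻¹ by rw [hk]; group] at this
    have hconjT : ∀ t ∈ T0, k⁻¹ * t * k ∈ M := fun t ht => hcenle ((hcen c _).2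
      ⟨mul_mem (mul_mem (inv_mem hkL) (hT0.1 ht)) hkL, by
        have h1 : ⁅k * c * k⁻¹, t⁆ ∈ Q :=
          hab T0 (hT0.1.trans hLG) hT0.2.1 (commutator_mem_commutator hb' ht)
        have h2 := Subgroup.Normal.conj_mem inferInstance _ h1 k⁻¹
        rwa [show k⁻¹ * ⁅k * c * k⁻¹, t⁆ * k⁻¹⁻¹ = ⁅c, k⁻¹ * t * k⁆ by
          simp only [commutatorElement_def]; group] at h2⟩)
    let H := M.map (MulAut.conj k).toMonoidHom
    have hAH : A ≤ H := fun a ha => ⟨k⁻¹ * a * k, hconjT a (hAT0 ha),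
      by simp only [MulEquiv.coe_toMonoidHom, MulAut.conj_apply]; group⟩
    have hHL : H ≤ L := by rintro _ ⟨y, hy, rfl⟩; exact hconjL k hkL y hy.1
    have hHne : H ≠ L := fun e => hMne (le_antisymm inf_le_left fun y hy => by
      have h1 : k * y * k⁻¹ ∈ H := e ▸ hconjL k hkL y hy
      obtain ⟨y', hy', he⟩ := h1
      have : y' = y := (MulAut.conj k).injective he
      rwa [this] at hy')
    have hkM : k ∈ M := hNM k hkL fun y hy => hM H hAH hHL hHne ⟨y, hy, rfl⟩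
    have := mul_mem (inv_mem hm) hkM
    rw [hk, inv_mul_cancel_left] at this
    exact hgM this
  -- the fixed points
  set X := V ⊓ centralizer (A : Set G) with hX
  set D := V ⊓ centralizer (L : Set G) with hD
  have hDX : D ≤ X := inf_le_inf_left _ (centralizer_le hAL)
  have hDfix : ∀ l ∈ L, ∀ d ∈ D, l * d * l⁻¹ = d := fun l hl d hd => by
    rw [mem_centralizer_iff.1 hd.2 l hl, mul_inv_cancel_right]
  have hXfix : ∀ a ∈ A, ∀ x ∈ X, a * x * a⁻¹ = x := fun a ha x hx => by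
    rw [mem_centralizer_iff.1 hx.2 a ha, mul_inv_cancel_right]
  have hXd : ∀ a ∈ A, ∀ v ∈ V, ⁅a, v⁆ ∈ X := fun a ha v hv => ⟨hVd v hv a, by
    show ⁅a, v⁆ ∈ centralizer (A : Set G)
    rw [← commutatorElement_inv]
    exact inv_mem ((commutator_eq_bot_iff_le_centralizer.1 hquad) (commutator_mem_commutator hv ha))⟩
  let Y : G → Subgroup G := fun g => X.map (MulAut.conj g).toMonoidHom
  have hY : ∀ g x, x ∈ Y g ↔ g⁻¹ * x * g ∈ X := fun g x => by
    constructor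
    · rintro ⟨y, hy, rfl⟩
      simpa [mul_assoc] using hy
    · exact fun h => ⟨_, h, by simp only [MulEquiv.coe_toMonoidHom, MulAut.conj_apply]; group⟩
  have hYV : ∀ g, Y g ≤ V := fun g => by rintro _ ⟨y, hy, rfl⟩; exact hVc y hy.1 g
  have hDY : ∀ g ∈ L, D ≤ Y g := fun g hg d hd => (hY g d).2 (by
    have h := hDfix g⁻¹ (inv_mem hg) d hd
    rw [inv_inv] at h
    rw [h]; exact hDX hd)
  have hXY : ∀ g ∈ L, g ∉ M → ∀ x ∈ X, x ∈ Y g → x ∈ D := by
    intro g hg hgM x hx hxY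
    let H := L ⊓ centralizer ({x} : Set G)
    have hsing : ∀ y, y * x * y⁻¹ = x → y ∈ centralizer ({x} : Set G) := fun y hy =>
      mem_centralizer_iff.2 fun z hz => by
        rw [Set.mem_singleton_iff.1 hz]; exact (mul_inv_eq_iff_eq_mul.1 hy).symm
    by_cases hHe : H = L
    · refine ⟨hx.1, mem_centralizer_iff.2 fun l hl => ?_⟩
      exact (mem_centralizer_iff.1 ((inf_eq_left.1 hHe) hl) x rfl).symm
    · have hHM := hM H (fun a ha => ⟨hAL ha, hsing a (hXfix a ha x hx)⟩) inf_le_left hHe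
      refine absurd (fun c hc => hinter g hg hgM c hc (hHM ⟨hconjL g hg c (hAL hc), hsing _ ?_⟩)) hB0ne
      have h := hXfix c hc _ ((hY g x).1 hxY)
      calc g * c * g⁻¹ * x * (g * c * g⁻¹)⁻¹ = g * (c * (g⁻¹ * x * g) * c⁻¹) * g⁻¹ := by group
        _ = g * (g⁻¹ * x * g) * g⁻¹ := by rw [h]
        _ = x := by group
  have hcardY : ∀ g, Nat.card ↥(Y g) = Nat.card X := fun g =>
    card_map_of_injective (MulAut.conj g).injective
  have hsurj : ∀ g ∈ L, g ∉ M → ∀ u ∈ X, u ∉ D → ∀ v ∈ Y g,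
      ∃ c ∈ A, ⁅g * c * g⁻¹, u⁆⁻¹ * v ∈ D := by
    intro g hg hgM u hu huD v hv
    have hmem : ∀ c ∈ A, ⁅g * c * g⁻¹, u⁆ ∈ Y g := fun c hc => (hY g _).2 (by
      rw [comm_conj, show g⁻¹ * (g * ⁅c, g⁻¹ * u * g⁆ * g⁻¹) * g = ⁅c, g⁻¹ * u * g⁆ by group]
      exact hXd c hc _ (by simpa using hVc u hu.1 g⁻¹))
    haveI : (D.subgroupOf (Y g)).Normal := ⟨fun n hn y => by
      have : y * n * y⁻¹ = n := Subtype.ext (by
        show (y : G) * n * (y : G)⁻¹ = n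
        rw [hcom _ (hYV g y.2) _ (hYV g n.2), mul_inv_cancel_right])
      rwa [this]⟩
    have hmul : ∀ c ∈ A, ∀ c' ∈ A, ⁅g * (c * c') * g⁻¹, u⁆ = ⁅g * c * g⁻¹, u⁆ * ⁅g * c' * g⁻¹, u⁆ := by
      intro c hc c' hc'
      rw [show g * (c * c') * g⁻¹ = (g * c * g⁻¹) * (g * c' * g⁻¹) by group, comm_mul_left]
      have h := hXfix c hc _ ((hY g _).1 (hmem c' hc'))
      rw [show g * c * g⁻¹ * ⁅g * c' * g⁻¹, u⁆ * (g * c * g⁻¹)⁻¹ =
          g * (c * (g⁻¹ * ⁅g * c' * g⁻¹, u⁆ * g) * c⁻¹) * g⁻¹ by group, h,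
        show g * (g⁻¹ * ⁅g * c' * g⁻¹, u⁆ * g) * g⁻¹ = ⁅g * c' * g⁻¹, u⁆ by group]
      exact hcom _ (hYV g (hmem c' hc')) _ (hYV g (hmem c hc))
    let ψ : ↥A →* ↥(Y g) := MonoidHom.mk' (fun c => ⟨_, hmem c c.2⟩)
      (fun c c' => Subtype.ext (hmul c c.2 c' c'.2))
    let φ := (QuotientGroup.mk' (D.subgroupOf (Y g))).comp ψ
    have hker : φ.ker.map A.subtype ≤ B0 := by
      rintro _ ⟨c, hc, rfl⟩
      have hcD : ⁅g * (c : G) * g⁻¹, u⁆ ∈ D := (QuotientGroup.eq_one_iff (ψ c)).1 hc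
      let H : Subgroup G :=
        { carrier := {l | l ∈ L ∧ ⁅l, u⁆ ∈ D}
          one_mem' := ⟨one_mem L, by simp [one_mem]⟩
          mul_mem' := fun {l l'} hl hl' => ⟨mul_mem hl.1 hl'.1, by
            rw [comm_mul_left, hDfix l hl.1 _ hl'.2]; exact mul_mem hl'.2 hl.2⟩
          inv_mem' := fun {l} hl => ⟨inv_mem hl.1, by
            rw [show ⁅l⁻¹, u⁆ = l⁻¹ * ⁅l, u⁆⁻¹ * l⁻¹⁻¹ by simp only [commutatorElement_def]; group,
              hDfix _ (inv_mem hl.1) _ (inv_mem hl.2)]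
            exact inv_mem hl.2⟩ }
      by_cases hHe : H = L
      · exfalso
        have h1 : g⁻¹ ∈ H := hHe.ge (inv_mem hg)
        refine huD (hXY g hg hgM u hu ((hY g u).2 ?_))
        have := mul_mem (hDX h1.2) hu
        rwa [show ⁅g⁻¹, u⁆ * u = g⁻¹ * u * g by simp only [commutatorElement_def]; group] at this
      · refine hinter g hg hgM c c.2 (hM H (fun a ha => ⟨hAL ha, ?_⟩) (fun l hl => hl.1) hHe
          ⟨hconjL g hg _ (hAL c.2), hcD⟩)
        rw [commutatorElement_def, hXfix a ha u hu, mul_inv_cancel]; exact one_mem D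
    -- counting
    have hB0c : X ⊔ Y g ≤ V ⊓ centralizer (B0 : Set G) := by
      refine sup_le (inf_le_inf_left _ (centralizer_le inf_le_left)) fun x hx => ⟨hYV g hx, ?_⟩
      refine mem_centralizer_iff.2 fun c hc => ?_
      have hx' := (hY g x).1 hx
      have h1 : c * (g⁻¹ * x * g) * c⁻¹ = g⁻¹ * x * g := hXfix c hc.1 _ hx'
      have hq : ⁅c, g⁆ ∈ Q := ((hB0 c).1 hc).2 g hg
      have h2 : ⁅c, g⁆ * x * ⁅c, g⁆⁻¹ = x := by
        rw [← mem_centralizer_iff.1 (hQV hq) x (hYV g hx), mul_inv_cancel_right]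
      have h3 : c * x * c⁻¹ = x := by
        calc c * x * c⁻¹ = ⁅c, g⁆ * (g * (c * (g⁻¹ * x * g) * c⁻¹) * g⁻¹) * ⁅c, g⁆⁻¹ := by
              simp only [commutatorElement_def]; group
          _ = x := by rw [h1, show g * (g⁻¹ * x * g) * g⁻¹ = x by group, h2]
      exact mul_inv_eq_iff_eq_mul.1 h3
    have hinf : X ⊓ Y g = D :=
      le_antisymm (fun x hx => hXY g hg hgM x hx.1 hx.2) (le_inf hDX (hDY g hg))
    have hc1 : Nat.card X * Nat.card ↥(Y g) ≤ Nat.card ↥(V ⊓ centralizer (B0 : Set G)) * Nat.card D := by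
      refine (CfsgLib.PLocal.card_mul_card_le_sup_inf X (Y g)).trans ?_
      rw [hinf]
      exact Nat.mul_le_mul_right _ (card_le_of_le hB0c)
    have hb := hbest B0 hQB0 inf_le_left
    have hi : Nat.card ↥(Y g) = (D.subgroupOf (Y g)).index * Nat.card D := by
      rw [← Subgroup.index_mul_card (D.subgroupOf (Y g)),
        Nat.card_congr (Subgroup.subgroupOfEquivOfLe (hDY g hg)).toEquiv]
    have hn : (D.subgroupOf (Y g)).index * Nat.card B0 ≤ Nat.card A := by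
      refine Nat.le_of_mul_le_mul_right (c := Nat.card D * Nat.card X) ?_
        (Nat.mul_pos Nat.card_pos Nat.card_pos)
      calc (D.subgroupOf (Y g)).index * Nat.card B0 * (Nat.card D * Nat.card X)
          = Nat.card B0 * (Nat.card X * Nat.card ↥(Y g)) := by rw [hi]; ring
        _ ≤ Nat.card B0 * (Nat.card ↥(V ⊓ centralizer (B0 : Set G)) * Nat.card D) :=
            Nat.mul_le_mul_left _ hc1
        _ = Nat.card B0 * Nat.card ↥(V ⊓ centralizer (B0 : Set G)) * Nat.card D := by ring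
        _ ≤ Nat.card A * Nat.card X * Nat.card D := Nat.mul_le_mul_right _ hb
        _ = Nat.card A * (Nat.card D * Nat.card X) := by ring
    have hkc : Nat.card φ.ker ≤ Nat.card B0 :=
      Nat.card_le_card_of_injective (fun x : φ.ker => (⟨((x : ↥A) : G), hker ⟨x, x.2, rfl⟩⟩ : ↥B0))
        (fun x y h => by
          have e : ((x : ↥A) : G) = ((y : ↥A) : G) := congrArg (fun z : ↥B0 => (z : G)) h
          exact Subtype.ext (Subtype.ext e))
    have htop : φ.range = ⊤ := by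
      refine eq_top_of_le_card _ (Nat.le_of_mul_le_mul_right (c := Nat.card φ.ker) ?_ Nat.card_pos)
      rw [← Subgroup.index_ker φ, Subgroup.index_mul_card]
      exact (Nat.mul_le_mul_left _ hkc).trans hn
    obtain ⟨c, hc⟩ := (MonoidHom.range_eq_top.1 htop) (QuotientGroup.mk ⟨v, hv⟩)
    exact ⟨c, c.2, (QuotientGroup.eq.1 (hc : QuotientGroup.mk (ψ c) = QuotientGroup.mk (⟨v, hv⟩ : ↥(Y g))) :)⟩
  -- `X ≠ D`
  have hXne : ¬ X ≤ D := by
    intro hXD
    let St : Subgroup G :=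
      { carrier := {l | l ∈ L ∧ ∀ v ∈ V, ⁅l, v⁆ ∈ D}
        one_mem' := ⟨one_mem L, fun v _ => by simp [one_mem]⟩
        mul_mem' := fun {l l'} hl hl' => ⟨mul_mem hl.1 hl'.1, fun v hv => by
          rw [comm_mul_left, hDfix l hl.1 _ (hl'.2 v hv)]; exact mul_mem (hl'.2 v hv) (hl.2 v hv)⟩
        inv_mem' := fun {l} hl => ⟨inv_mem hl.1, fun v hv => by
          rw [show ⁅l⁻¹, v⁆ = l⁻¹ * ⁅l, v⁆⁻¹ * l⁻¹⁻¹ by simp only [commutatorElement_def]; group,
            hDfix _ (inv_mem hl.1) _ (inv_mem (hl.2 v hv))]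
          exact inv_mem (hl.2 v hv)⟩ }
    refine hLbad St (fun l hl => hl.1) ?_ ?_
      fun a ha => ⟨hAL ha, fun v hv => hXD (hXd a ha v hv)⟩
    · rintro ⟨l, hl⟩
      have h2 : l * l ∈ Q := hfaith _ (hLG (mul_mem hl.1 hl.1)) (mem_centralizer_iff.2 fun v hv => by
        have hd := hl.2 v hv
        have e : ⁅l * l, v⁆ = 1 := by
          rw [comm_mul_left, hDfix l hl.1 _ hd]; exact hsq _ hd.1
        exact (commutatorElement_eq_one_iff_commute.1 e).eq.symm)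
      obtain ⟨k, hk⟩ := hQ ⟨_, h2⟩
      refine ⟨k + 1, Subtype.ext ?_⟩
      show l ^ (2 ^ (k + 1)) = 1
      rw [pow_succ', pow_mul, sq]
      exact congrArg Subtype.val hk
    · intro x hx
      refine mem_normalizer_fintype fun l hl => ⟨hconjL x hx l hl.1, fun v hv => ?_⟩
      rw [comm_conj]
      have hd := hl.2 _ (by simpa using hVc v hv x⁻¹)
      rw [hDfix x hx _ hd]; exact hd
  -- conclusion
  obtain ⟨u, hu, huD⟩ := SetLike.not_le_iff_exists.1 hXne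
  obtain ⟨g, hg, hgM⟩ : ∃ g ∈ L, g ∉ M :=
    SetLike.not_le_iff_exists.1 fun h => hMne (le_antisymm inf_le_left h)
  obtain ⟨v, hv, hvD⟩ : ∃ v ∈ Y g, v ∉ D := by
    refine SetLike.not_le_iff_exists.1 fun h => hXne ?_
    have := Subgroup.eq_of_le_of_card_ge hDX ((hcardY g).ge.trans (card_le_of_le h))
    exact this.ge
  have hvV : v ∈ V := hYV g hv
  have huvD : u * v ∉ D := fun h => huD (hXY g hg hgM u hu (by
    have := mul_mem (hDY g hg h) (inv_mem hv)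
    rwa [mul_inv_cancel_right] at this))
  obtain ⟨c, hc, hcv⟩ := hsurj g hg hgM u hu huD v hv
  have hg' : g⁻¹ ∉ M := fun h => hgM (by simpa using inv_mem h)
  have hu' : g⁻¹ * v * g ∈ X := (hY g v).1 hv
  obtain ⟨a, ha, hau'⟩ := hsurj g⁻¹ (inv_mem hg) hg' _ hu' (fun h => hvD (by
      have h' := hDfix g hg _ h
      rw [show g * (g⁻¹ * v * g) * g⁻¹ = v by group] at h'
      rwa [h'])) (g⁻¹ * u * g) ((hY _ _).2 (by
      rwa [show (g⁻¹)⁻¹ * (g⁻¹ * u * g) * g⁻¹ = u by group]))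
  have hav : ⁅a, v⁆⁻¹ * u ∈ D := by
    have h := hDfix g hg _ hau'
    rw [show g * (⁅g⁻¹ * a * g⁻¹⁻¹, g⁻¹ * v * g⁆⁻¹ * (g⁻¹ * u * g)) * g⁻¹ = ⁅a, v⁆⁻¹ * u by
      simp only [commutatorElement_def]; group] at h
    rwa [h]
  have hL2 : ∀ y ∈ A, y * y ∈ Q := fun y hy => hfaith _ (hAG (mul_mem hy hy))
    (mem_centralizer_iff.2 fun w hw => by
      have hd := hXd y hy w hw
      have e : ⁅y * y, w⁆ = 1 := by
        rw [comm_mul_left, hXfix y hy _ hd]; exact hsq _ hd.1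
      exact (commutatorElement_eq_one_iff_commute.1 e).eq.symm)
  have hcongr : ∀ y w z : G, w ∈ V → z ∈ V → ⁅y, w⁆⁻¹ * z ∈ D → (z * w)⁻¹ * (y * w * y⁻¹) ∈ D := by
    intro y w z hw hz h
    have e : (z * w)⁻¹ * (y * w * y⁻¹) = (⁅y, w⁆⁻¹ * z)⁻¹ := by
      rw [mul_inv_rev, mul_inv_rev, inv_inv, conj_eq_comm_mul,
        hcom _ (hVd w hw y) w hw]
      calc w⁻¹ * z⁻¹ * (w * ⁅y, w⁆) = w⁻¹ * (z⁻¹ * w) * ⁅y, w⁆ := by group
        _ = z⁻¹ * ⁅y, w⁆ := by rw [hcom _ (inv_mem hz) w hw, inv_mul_cancel_left]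
    rw [e]; exact inv_mem h
  set b := g * c * g⁻¹ with hbdef
  have hCD : ∀ y ∈ L, y ∈ centralizer (D : Set G) := fun y hy => mem_centralizer_iff.2 fun d hd =>
    (mul_inv_eq_iff_eq_mul.1 (hDfix y hy d hd)).symm
  have hau : a * u * a⁻¹ = u := hXfix a ha u hu
  have hbv : b * v * b⁻¹ = v := by
    have h := hXfix c hc _ hu'
    calc b * v * b⁻¹ = g * (c * (g⁻¹ * v * g) * c⁻¹) * g⁻¹ := by rw [hbdef]; group
      _ = g * (g⁻¹ * v * g) * g⁻¹ := by rw [h]
      _ = v := by group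
  have hb2 : b * b ∈ Q := by
    have h := Subgroup.Normal.conj_mem inferInstance _ (hL2 c hc) g
    rwa [show g * (c * c) * g⁻¹ = b * b by rw [hbdef]; group] at h
  have hbu : (u * v)⁻¹ * (b * u * b⁻¹) ∈ D := by
    rw [hcom u hu.1 v hvV]; exact hcongr b u v hu.1 hvV hcv
  exact involves_S4_of_four_section V Q D hV hQ hQV inf_le_left hu.1 hvV huD hvD huvD
    (hCD a (hAL ha)) (hCD b (hconjL g hg c (hAL hc))) (hL2 a ha) hb2 hau
    (hcongr a v u hvV hu.1 hav) hbv hbu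

end CfsgLib.S4Free
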