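import Cfsg.Agent.Lib.S4Free.Basic
import Cfsg.Agent.Lib.LocalEven.Involves
import Cfsg.Prelude.Def_Transfer
import Mathlib.GroupTheory.GroupAction.Quotient
import Mathlib.GroupTheory.Perm.Sign

/-!
Two elements acting as two transvections generating `S₃` on a four-group section of a normal
elementary abelian `2`-subgroup give a section isomorphic to `S₄`.
-/

set_option autoImplicit false

namespace CfsgLib.S4Free

open Subgroup Cfsg
open scoped commutatorElement Pointwise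

theorem perm_four_generate :
    ∀ π : Equiv.Perm (Fin 4), ∃ (i : Fin 3) (e : Fin 2) (j : Fin 3) (l : Fin 2),
      (Equiv.swap (1 : Fin 4) 2 * Equiv.swap 2 3) ^ (i : ℕ) *
        (Equiv.swap (0 : Fin 4) 1 * Equiv.swap 2 3) ^ (e : ℕ) *
        ((Equiv.swap (1 : Fin 4) 2 * Equiv.swap 2 3) ^ (i : ℕ))⁻¹ *
        (Equiv.swap (1 : Fin 4) 2 * Equiv.swap 2 3) ^ (j : ℕ) *
        (Equiv.swap (2 : Fin 4) 3) ^ (l : ℕ) = π := by
  decide +kernel

variable {G : Type*} [Group G] [Finite G]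

theorem involves_S4_of_four_section (V Q D : Subgroup G) [V.Normal] [Q.Normal]
    (hV : IsElementaryAbelian 2 V) (hQ : IsPGroup 2 Q) (hQV : Q ≤ centralizer (V : Set G))
    (hDV : D ≤ V) {u v a b : G} (hu : u ∈ V) (hv : v ∈ V)
    (huD : u ∉ D) (hvD : v ∉ D) (huvD : u * v ∉ D)
    (haD : a ∈ centralizer (D : Set G)) (hbD : b ∈ centralizer (D : Set G))
    (ha2 : a * a ∈ Q) (hb2 : b * b ∈ Q)
    (hau : a * u * a⁻¹ = u) (hav : (u * v)⁻¹ * (a * v * a⁻¹) ∈ D)
    (hbv : b * v * b⁻¹ = v) (hbu : (u * v)⁻¹ * (b * u * b⁻¹) ∈ D) :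
    Involves (Equiv.Perm (Fin 4)) G := by
  classical
  haveI : Fact (Nat.Prime 3) := ⟨by norm_num⟩
  have hsq : ∀ x ∈ V, x * x = 1 := fun x hx => by rw [← sq]; exact hV.2 x hx
  have hinv : ∀ x ∈ V, x⁻¹ = x := fun x hx => inv_eq_of_mul_eq_one_right (hsq x hx)
  have hcom : ∀ x ∈ V, ∀ y ∈ V, x * y = y * x := fun x hx y hy => by
    haveI := hV.1
    exact congrArg Subtype.val (mul_comm' (⟨x, hx⟩ : ↥V) ⟨y, hy⟩)
  set z := a * b with hz
  -- the four representatives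
  let w : Fin 4 → G := ![1, u, v, u * v]
  have hw : ∀ i, w i ∈ V := fun i => by fin_cases i <;> simp [w, hu, hv, one_mem, mul_mem]
  have hwuv : w 1 * w 2 = w 3 := rfl
  have hQfix : ∀ q ∈ Q, ∀ x ∈ V, q * x * q⁻¹ = x := fun q hq x hx => by
    rw [← (mem_centralizer_iff.1 (hQV hq) x hx), mul_inv_cancel_right]
  have hCfix : ∀ g ∈ centralizer (D : Set G), ∀ d ∈ D, g * d * g⁻¹ = d := fun g hg d hd => by
    rw [← (mem_centralizer_iff.1 hg d hd), mul_inv_cancel_right]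
  -- congruence modulo `D`
  let M : G → (Fin 4 → Fin 4) → Prop := fun g f =>
    (∀ i, (w (f i))⁻¹ * (g * w i * g⁻¹) ∈ D) ∧ g ∈ centralizer (D : Set G)
  have Mmk : ∀ g (f : Fin 4 → Fin 4), g ∈ centralizer (D : Set G) → f 0 = 0 →
      (w (f 1))⁻¹ * (g * u * g⁻¹) ∈ D → (w (f 2))⁻¹ * (g * v * g⁻¹) ∈ D →
      (w (f 1) * w (f 2))⁻¹ * w (f 3) ∈ D → M g f := by
    intro g f hg h0 h1 h2 h3
    refine ⟨fun i => ?_, hg⟩
    fin_cases i
    · simp [w, h0, one_mem]
    · exact h1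
    · exact h2
    · have hgu : g * u * g⁻¹ ∈ V := Subgroup.Normal.conj_mem inferInstance u hu g
      have hgv : g * v * g⁻¹ ∈ V := Subgroup.Normal.conj_mem inferInstance v hv g
      have e : (w (f 3))⁻¹ * (g * w 3 * g⁻¹) = ((w (f 1) * w (f 2))⁻¹ * w (f 3))⁻¹ *
          (((w (f 1))⁻¹ * (g * u * g⁻¹)) * ((w (f 2))⁻¹ * (g * v * g⁻¹))) := by
        have ec := hcom _ hgu _ (inv_mem (hw (f 2)))
        have ec2 := hcom _ (inv_mem (hw (f 1))) _ (inv_mem (hw (f 2)))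
        calc (w (f 3))⁻¹ * (g * w 3 * g⁻¹)
            = (w (f 3))⁻¹ * ((g * u * g⁻¹) * (g * v * g⁻¹)) := by rw [← hwuv]; show _ * (g * (u * v) * g⁻¹) = _; group
          _ = _ := by
            rw [show ((w (f 1))⁻¹ * (g * u * g⁻¹)) * ((w (f 2))⁻¹ * (g * v * g⁻¹)) =
                (w (f 1))⁻¹ * ((g * u * g⁻¹) * (w (f 2))⁻¹) * (g * v * g⁻¹) by group, ec,
              ← mul_assoc (w (f 1))⁻¹, ec2]
            group
      show (w (f 3))⁻¹ * (g * w 3 * g⁻¹) ∈ D
      rw [e]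
      exact mul_mem (inv_mem h3) (mul_mem h1 h2)
  have Mone : M 1 id := ⟨fun i => by simp [one_mem], one_mem _⟩
  have Mmul : ∀ {g g' f f'}, M g f → M g' f' → M (g * g') (f ∘ f') := by
    rintro g g' f f' ⟨h, hg⟩ ⟨h', hg'⟩
    refine ⟨fun i => ?_, mul_mem hg hg'⟩
    have e : (w (f (f' i)))⁻¹ * (g * g' * w i * (g * g')⁻¹) =
        ((w (f (f' i)))⁻¹ * (g * w (f' i) * g⁻¹)) * (g * ((w (f' i))⁻¹ * (g' * w i * g'⁻¹)) * g⁻¹) := by
      group
    rw [Function.comp_apply, e, hCfix g hg _ (h' i)]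
    exact mul_mem (h _) (h' i)
  have hQM : ∀ q ∈ Q, M q id := fun q hq =>
    ⟨fun i => by rw [hQfix q hq _ (hw i)]; simp [one_mem],
      mem_centralizer_iff.2 fun d hd => mem_centralizer_iff.1 (hQV hq) d (hDV hd)⟩
  have huv' : ∀ x y : G, x ∈ V → y ∈ V → (x * (x * y))⁻¹ * y = 1 := fun x y hx _ => by
    rw [← mul_assoc, hsq x hx, one_mul, inv_mul_cancel]
  have Ma : M a (Equiv.swap (2 : Fin 4) 3) :=
    Mmk a _ haD rfl (by rw [hau]; simp [w, one_mem, Equiv.swap_apply_def]) hav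
      (by
        show (w 1 * w 3)⁻¹ * w 2 ∈ D
        rw [show (w 1 * w 3)⁻¹ * w 2 = 1 from huv' u v hu hv]; exact one_mem D)
  have Mb : M b (Equiv.swap (1 : Fin 4) 3) :=
    Mmk b _ hbD rfl hbu (by rw [hbv]; simp [w, one_mem, Equiv.swap_apply_def])
      (by
        show (w 3 * w 2)⁻¹ * w 1 ∈ D
        have e : (w 3 * w 2)⁻¹ * w 1 = 1 := by
          show (u * v * v)⁻¹ * u = 1
          rw [mul_assoc, hsq v hv, mul_one, inv_mul_cancel]
        rw [e]; exact one_mem D)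
  let τ : Equiv.Perm (Fin 4) := Equiv.swap 1 2 * Equiv.swap 2 3
  have Mz : M z τ := by
    have h := Mmul Ma Mb
    have e : (⇑(Equiv.swap (2 : Fin 4) 3) ∘ ⇑(Equiv.swap (1 : Fin 4) 3)) = ⇑τ := by decide
    rwa [e] at h
  have Mpow : ∀ n : ℕ, M (z ^ n) ⇑(τ ^ n) := fun n => by
    induction n with
    | zero => simpa using Mone
    | succ n ih =>
      rw [pow_succ, pow_succ, Equiv.Perm.coe_mul]
      exact Mmul ih Mz
  have hτ3 : τ ^ 3 = 1 := by decide
  -- the element of order a power of `3`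
  set k := (orderOf z).factorization 3 with hk
  set m0 := orderOf z / 3 ^ k with hm0
  have hzpos : orderOf z ≠ 0 := (orderOf_pos z).ne'
  have hm0cop : ¬ 3 ∣ m0 := Nat.not_dvd_ordCompl (Fact.out : Nat.Prime 3) hzpos
  have hmul : 3 ^ k * m0 = orderOf z := Nat.ordProj_mul_ordCompl_eq_self _ 3
  have hm1 : (m0 * m0) % 3 = 1 := by
    rw [Nat.mul_mod]
    have : m0 % 3 = 1 ∨ m0 % 3 = 2 := by omega
    rcases this with h | h <;> rw [h]
  set x := z ^ (m0 * m0) with hx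
  have Mx : M x τ := by
    have h := Mpow (m0 * m0)
    have e : τ ^ (m0 * m0) = τ := by
      rw [← Nat.div_add_mod (m0 * m0) 3, hm1, pow_add, pow_mul, hτ3, one_pow, one_mul, pow_one]
    rwa [e] at h
  set P := zpowers x with hP
  have hPp : IsPGroup 3 P := by
    rintro ⟨y, hy⟩
    refine ⟨k, Subtype.ext ?_⟩
    obtain ⟨i, rfl⟩ := mem_zpowers_iff.1 hy
    rw [SubgroupClass.coe_pow, OneMemClass.coe_one, ← zpow_natCast, ← zpow_mul, mul_comm,
      zpow_mul, zpow_natCast, hx, ← pow_mul, show m0 * m0 * 3 ^ k = 3 ^ k * m0 * m0 by ring, hmul,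
      pow_mul, pow_orderOf_eq_one, one_pow, one_zpow]
  have hPx : x ∈ P := mem_zpowers x
  -- `a` inverts `x` modulo `Q`
  let π := QuotientGroup.mk' Q
  have hπ : ∀ g, g ∈ Q ↔ π g = 1 := fun g => (QuotientGroup.eq_one_iff g).symm
  have hainv : π a * π x * (π a)⁻¹ = (π x)⁻¹ := by
    have h1 : π a * π a = 1 := by rw [← map_mul, ← hπ]; exact ha2
    have h2 : π b * π b = 1 := by rw [← map_mul, ← hπ]; exact hb2
    have h3 : π a * π z * (π a)⁻¹ = (π z)⁻¹ := by
      rw [hz, map_mul, mul_inv_rev, inv_eq_of_mul_eq_one_right h1, inv_eq_of_mul_eq_one_right h2,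
        ← mul_assoc, h1, one_mul]
    rw [hx, map_pow, ← conj_pow, h3, inv_pow]
  let P' := P.map (MulAut.conj a).toMonoidHom
  have hP'le : P' ≤ P ⊔ Q := by
    rintro _ ⟨y, hy, rfl⟩
    obtain ⟨i, rfl⟩ := mem_zpowers_iff.1 hy
    rw [map_zpow]
    refine zpow_mem ?_ i
    have h : (MulAut.conj a).toMonoidHom x * x ∈ Q := by
      rw [hπ]; simp only [MulEquiv.coe_toMonoidHom, MulAut.conj_apply, map_mul, map_inv]
      rw [hainv, inv_mul_cancel]
    rw [show (MulAut.conj a).toMonoidHom x = ((MulAut.conj a).toMonoidHom x * x) * x⁻¹ by group]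
    exact mul_mem (mem_sup_right h) (mem_sup_left (inv_mem hPx))
  have hmax : IsMaxPIn 3 P (P ⊔ Q) := by
    refine ⟨le_sup_left, hPp, fun X hX hXp hPX => le_antisymm (fun y hy => ?_) hPX⟩
    obtain ⟨c, hc, q, hq, rfl⟩ := mem_sup_of_normal_right.1 (hX hy)
    have hqX : q ∈ X := by
      have := mul_mem (inv_mem (hPX hc)) hy
      rwa [inv_mul_cancel_left] at this
    obtain ⟨i, hi⟩ := hXp ⟨q, hqX⟩
    obtain ⟨j, hj⟩ := hQ ⟨q, hq⟩
    have h1 : orderOf q ∣ 3 ^ i := orderOf_dvd_of_pow_eq_one (congrArg Subtype.val hi)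
    have h2 : orderOf q ∣ 2 ^ j := orderOf_dvd_of_pow_eq_one (congrArg Subtype.val hj)
    have : q = 1 := orderOf_eq_one_iff.1 (Nat.eq_one_of_dvd_coprimes
      (Nat.Coprime.pow i j (by norm_num)) h1 h2)
    rw [this, mul_one]; exact hc
  obtain ⟨h, hh, hconj⟩ := hmax.exists_conj_le hP'le (hPp.map _)
  obtain ⟨p0, hp0, q, hq, rfl⟩ := mem_sup_of_normal_right.1 hh
  set s := q * a with hs
  have Ms : M s (Equiv.swap (2 : Fin 4) 3) := by simpa using Mmul (hQM q hq) Ma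
  have hsN : s ∈ normalizer (P : Set G) := by
    refine mem_normalizer_fintype fun y hy => ?_
    have h1 : p0 * q * (a * y * a⁻¹) * (p0 * q)⁻¹ ∈ P := hconj _ ⟨y, hy, rfl⟩
    have h2 := mul_mem (mul_mem (inv_mem hp0) h1) hp0
    show s * y * s⁻¹ ∈ P
    rwa [show p0⁻¹ * (p0 * q * (a * y * a⁻¹) * (p0 * q)⁻¹) * p0 = s * y * s⁻¹ by
      rw [hs]; group] at h2
  set R := closure ({x, s} : Set G) with hR
  have hRN : R ≤ normalizer (P : Set G) := by
    rw [hR, closure_le]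
    rintro y (rfl | rfl)
    exacts [le_normalizer hPx, hsN]
  have hxR : x ∈ R := subset_closure (Or.inl rfl)
  have hsR : s ∈ R := subset_closure (Or.inr rfl)
  -- `W`
  let W : Subgroup G :=
    { carrier := {g | ∃ i, (w i)⁻¹ * g ∈ D}
      one_mem' := ⟨0, by simp [w, one_mem]⟩
      mul_mem' := by
        rintro g g' ⟨i, hi⟩ ⟨j, hj⟩
        have hmk : ∀ i j : Fin 4, ∃ l, (w l)⁻¹ * (w i * w j) ∈ D := by
          have h1 : ∀ y ∈ V, (1 : G)⁻¹ * (y * y) ∈ D := fun y hy => by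
            rw [hsq y hy]; simp [one_mem]
          have e0 : w 0 = 1 := rfl
          intro i j
          fin_cases i <;> fin_cases j
          · exact ⟨0, by simp [w, one_mem]⟩
          · exact ⟨1, by simp [w, one_mem]⟩
          · exact ⟨2, by simp [w, one_mem]⟩
          · exact ⟨3, by simp [w, one_mem]⟩
          · exact ⟨1, by simp [w, one_mem]⟩
          · exact ⟨0, h1 u hu⟩
          · exact ⟨3, by simp [w, one_mem]⟩
          · refine ⟨2, ?_⟩
            show v⁻¹ * (u * (u * v)) ∈ D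
            rw [← mul_assoc u, hsq u hu, one_mul, inv_mul_cancel]; exact one_mem D
          · exact ⟨2, by simp [w, one_mem]⟩
          · refine ⟨3, ?_⟩
            show (u * v)⁻¹ * (v * u) ∈ D
            rw [hcom v hv u hu, inv_mul_cancel]; exact one_mem D
          · exact ⟨0, h1 v hv⟩
          · refine ⟨1, ?_⟩
            show u⁻¹ * (v * (u * v)) ∈ D
            rw [hcom u hu v hv, ← mul_assoc v, hsq v hv, one_mul, inv_mul_cancel]; exact one_mem D
          · exact ⟨3, by simp [w, one_mem]⟩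
          · refine ⟨2, ?_⟩
            show v⁻¹ * (u * v * u) ∈ D
            rw [hcom u hu v hv, mul_assoc, hsq u hu, mul_one, inv_mul_cancel]; exact one_mem D
          · refine ⟨1, ?_⟩
            show u⁻¹ * (u * v * v) ∈ D
            rw [mul_assoc, hsq v hv, mul_one, inv_mul_cancel]; exact one_mem D
          · exact ⟨0, h1 _ (mul_mem hu hv)⟩
        obtain ⟨l, hl⟩ := hmk i j
        refine ⟨l, ?_⟩
        have e : (w l)⁻¹ * (g * g') = ((w l)⁻¹ * (w i * w j)) * (((w i)⁻¹ * g) * ((w j)⁻¹ * g')) := by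
          have hc := hcom _ (hDV hi) _ (inv_mem (hw j))
          calc (w l)⁻¹ * (g * g') = (w l)⁻¹ * w i * (((w i)⁻¹ * g) * g') := by group
            _ = (w l)⁻¹ * w i * w j * ((w j)⁻¹ * ((w i)⁻¹ * g) * g') := by group
            _ = _ := by rw [← hc]; group
        rw [e]
        exact mul_mem hl (mul_mem hi hj)
      inv_mem' := by
        rintro g ⟨i, hi⟩
        refine ⟨i, ?_⟩
        have hgV : g ∈ V := by
          have h := mul_mem (hw i) (hDV hi); rwa [mul_inv_cancel_left] at h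
        rwa [hinv g hgV] }
  have hWV : ∀ g ∈ W, g ∈ V := by
    rintro g ⟨i, hi⟩
    have h := mul_mem (hw i) (hDV hi); rwa [mul_inv_cancel_left] at h
  have hwW : ∀ i, w i ∈ W := fun i => ⟨i, by simp [one_mem]⟩
  have hMN : ∀ g f, M g f → g ∈ normalizer (W : Set G) := by
    intro g f hg
    refine mem_normalizer_fintype ?_
    rintro y ⟨i, hi⟩
    refine ⟨f i, ?_⟩
    have e : (w (f i))⁻¹ * (g * y * g⁻¹) =
        ((w (f i))⁻¹ * (g * w i * g⁻¹)) * (g * ((w i)⁻¹ * y) * g⁻¹) := by group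
    rw [e, hCfix g hg.2 _ hi]
    exact mul_mem (hg.1 i) hi
  have hRC : R ≤ normalizer (W : Set G) ⊓ centralizer (D : Set G) := by
    rw [hR, closure_le]
    rintro y (rfl | rfl)
    exacts [⟨hMN _ _ Mx, Mx.2⟩, ⟨hMN _ _ Ms, Ms.2⟩]
  have hRW : ∀ r ∈ R, r ∈ W → r ∈ D := by
    intro r hrR hrW
    have h1 : ⁅x, r⁆ ∈ P := by
      rw [commutatorElement_def, mul_assoc, mul_assoc, ← mul_assoc r]
      exact mul_mem hPx ((mem_normalizer_iff.1 (hRN hrR) x⁻¹).1 (inv_mem hPx))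
    have h2 : ⁅x, r⁆ ∈ W := by
      rw [commutatorElement_def]
      exact mul_mem ((mem_normalizer_iff.1 (hRC hxR).1 r).1 hrW) (inv_mem hrW)
    have h3 : ⁅x, r⁆ = 1 := by
      obtain ⟨i, hi⟩ := hPp ⟨_, h1⟩
      refine orderOf_eq_one_iff.1 (Nat.eq_one_of_dvd_coprimes (Nat.Coprime.pow i 1 (by norm_num) : (3 ^ i).Coprime (2 ^ 1))
        (orderOf_dvd_of_pow_eq_one (congrArg Subtype.val hi))
        (orderOf_dvd_of_pow_eq_one (by rw [pow_one]; exact hV.2 _ (hWV _ h2))))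
    obtain ⟨i, hi⟩ := hrW
    have h4 : x * r * x⁻¹ = r := mul_inv_eq_one.1 h3
    have h5 : (w (τ i))⁻¹ * w i ∈ D := by
      have e1 : x * w i * x⁻¹ = (x * r * x⁻¹) * (x * ((w i)⁻¹ * r) * x⁻¹)⁻¹ := by group
      rw [h4, hCfix x Mx.2 _ hi] at e1
      have h := Mx.1 i
      rw [e1] at h
      have e2 : r * ((w i)⁻¹ * r)⁻¹ = w i := by group
      rwa [e2] at h
    fin_cases i
    · simpa [w] using hi
    · exfalso
      apply huvD
      have h' : v⁻¹ * u ∈ D := h5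
      rwa [hinv v hv, hcom v hv u hu] at h'
    · exfalso
      apply huD
      have h' : (u * v)⁻¹ * v ∈ D := h5
      rwa [hinv _ (mul_mem hu hv), mul_assoc, hsq v hv, mul_one] at h'
    · exfalso
      apply hvD
      have h' : u⁻¹ * (u * v) ∈ D := h5
      rwa [inv_mul_cancel_left] at h'
  -- the action
  let K := W ⊔ R
  let U := (D ⊔ R).subgroupOf K
  have hwK : ∀ i, w i ∈ K := fun i => mem_sup_left (hwW i)
  have hDW : D ≤ W := fun d hd => ⟨0, by simpa [w] using hd⟩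
  have hRnD : R ≤ normalizer (D : Set G) := fun r hr => mem_normalizer_fintype fun d hd => by
    show r * d * r⁻¹ ∈ D
    rw [hCfix r (hRC hr).2 d hd]; exact hd
  have hUD : ∀ g, g ∈ D ⊔ R → g ∈ W → g ∈ D := by
    intro g hg hgW
    have : g ∈ (D : Set G) * (R : Set G) := by
      rw [← coe_mul_of_right_le_normalizer_left D R hRnD]; exact hg
    obtain ⟨d, hd, r, hr, rfl⟩ := this
    refine mul_mem hd (hRW r hr ?_)
    have h := mul_mem (inv_mem (hDW hd)) hgW
    rwa [inv_mul_cancel_left] at h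
  let σ : Fin 4 → ↥K ⧸ U := fun i => QuotientGroup.mk (⟨w i, hwK i⟩ : ↥K)
  have hvu : v * u ∉ D := by rwa [hcom v hv u hu]
  have huuv : u * (u * v) ∉ D := by rwa [← mul_assoc, hsq u hu, one_mul]
  have huvu : u * v * u ∉ D := by rwa [hcom u hu v hv, mul_assoc, hsq u hu, mul_one]
  have hvuv : v * (u * v) ∉ D := by rwa [hcom u hu v hv, ← mul_assoc, hsq v hv, one_mul]
  have huvv : u * v * v ∉ D := by rwa [mul_assoc, hsq v hv, mul_one]
  have hind : ∀ i j, w i * w j ∈ D → i = j := by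
    intro i j h'
    fin_cases i <;> fin_cases j <;> first
      | rfl
      | (exfalso; revert h'; simp [w, huD, hvD, huvD, hvu, huuv, huvu, hvuv, huvv])
  have hσi : Function.Injective σ := by
    intro i j hij
    have h : (w i)⁻¹ * w j ∈ D ⊔ R := (QuotientGroup.eq.1 hij :)
    have h' := hUD _ h (mul_mem (inv_mem (hwW i)) (hwW j))
    rw [hinv _ (hw i)] at h'
    exact hind i j h'
  have hσs : Function.Surjective σ := by
    intro c
    obtain ⟨⟨g, hg⟩, rfl⟩ := QuotientGroup.mk_surjective c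
    have : g ∈ (W : Set G) * (R : Set G) := by
      rw [← coe_mul_of_right_le_normalizer_left W R (fun r hr => (hRC hr).1)]; exact hg
    obtain ⟨y, ⟨i, hi⟩, r, hr, rfl⟩ := this
    refine ⟨i, QuotientGroup.eq.2 ?_⟩
    show (w i)⁻¹ * (y * r) ∈ D ⊔ R
    rw [← mul_assoc]
    exact mul_mem (mem_sup_left hi) (mem_sup_right hr)
  let e := Equiv.ofBijective σ ⟨hσi, hσs⟩
  let F : ↥K →* Equiv.Perm (Fin 4) :=
    (e.symm.permCongrHom).toMonoidHom.comp (MulAction.toPermHom ↥K (↥K ⧸ U))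
  have hF : ∀ (g : ↥K) (f : Equiv.Perm (Fin 4)), (∀ i, g • σ i = σ (f i)) → F g = f := by
    intro g f hg
    refine Equiv.ext fun i => ?_
    show e.symm (g • e i) = f i
    rw [Equiv.symm_apply_eq]; exact hg i
  have hFR : ∀ r (hr : r ∈ R) (f : Equiv.Perm (Fin 4)), M r f → F ⟨r, mem_sup_right hr⟩ = f := by
    intro r hr f hf
    refine hF _ f fun i => ?_
    refine (QuotientGroup.eq.2 ?_).symm
    show (w (f i))⁻¹ * (r * w i) ∈ D ⊔ R
    rw [show (w (f i))⁻¹ * (r * w i) = ((w (f i))⁻¹ * (r * w i * r⁻¹)) * r by group]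
    exact mul_mem (mem_sup_left (hf.1 i)) (mem_sup_right hr)
  have hFu : F ⟨u, hwK 1⟩ = Equiv.swap (0 : Fin 4) 1 * Equiv.swap 2 3 := by
    refine hF _ _ fun i => ?_
    refine (QuotientGroup.eq.2 ?_).symm
    refine (le_sup_left : D ≤ D ⊔ R) ?_
    fin_cases i
    · show u⁻¹ * (u * 1) ∈ D; simp [one_mem]
    · show (1 : G)⁻¹ * (u * u) ∈ D; rw [hsq u hu]; simp [one_mem]
    · show (u * v)⁻¹ * (u * v) ∈ D; simp [one_mem]
    · show v⁻¹ * (u * (u * v)) ∈ D; rw [← mul_assoc u, hsq u hu]; simp [one_mem]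
  refine LocalEven.involves_of_surjective K F fun π' => ?_
  obtain ⟨i, j, k', l, rfl⟩ := perm_four_generate π'
  let X : ↥K := ⟨x, mem_sup_right hxR⟩
  let S : ↥K := ⟨s, mem_sup_right hsR⟩
  refine ⟨X ^ (i : ℕ) * (⟨u, hwK 1⟩ : ↥K) ^ (j : ℕ) * (X ^ (i : ℕ))⁻¹ * X ^ (k' : ℕ) * S ^ (l : ℕ), ?_⟩
  simp only [map_mul, map_inv, map_pow, hFu, X, S, hFR x hxR τ Mx, hFR s hsR _ Ms]
  rfl

end CfsgLib.S4Free
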